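import Cfsg.Agent.Lib.PRQPow.Five
import Cfsg.Agent.S4503
import Cfsg.Agent.S4504

/-!
Simple groups whose order is the product of two primes and a prime power.
-/

set_option autoImplicit false

namespace CfsgLib.PRQPow

open Cfsg CfsgLib.Blocks CfsgLib.CharTheory CfsgLib.SmallSylow
open scoped ComplexConjugate

universe u

variable {G : Type u} [Group G] [Fintype G]

theorem three_dvd_two_pow (n : ℕ) : 2 ^ n % 3 = 1 ∧ 2 ^ (n + 1) % 3 = 2 ∨
    2 ^ n % 3 = 2 ∧ 2 ^ (n + 1) % 3 = 1 := by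
  induction n with
  | zero => left; norm_num
  | succ k ih => rw [show 2 ^ (k + 1 + 1) = 2 * 2 ^ (k + 1) from pow_succ' 2 (k + 1)]; omega

theorem eq_three {n : ℕ} (hn : n.Prime) (h : n % 3 = 0) : n = 3 :=
  ((Nat.prime_dvd_prime_iff_eq Nat.prime_three hn).1 (Nat.dvd_of_mod_eq_zero h)).symm

theorem card_sylow_prime {s m : ℕ} [Fact s.Prime] (h : Nat.card G = s * m) (hm : ¬ s ∣ m)
    (P : Sylow s G) : Nat.card P = s := by
  have hs : s.Prime := Fact.out
  have hm0 : m ≠ 0 := fun e => hm (e ▸ dvd_zero s)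
  rw [Sylow.card_eq_multiplicity, h, Nat.factorization_mul hs.ne_zero hm0, Finsupp.add_apply,
    hs.factorization_self, Nat.factorization_eq_zero_of_not_dvd hm, add_zero, pow_one]

/-- A Sylow subgroup of prime order `s` forces a smaller prime divisor of the group order. -/
theorem exists_smaller_prime (hperf : commutator G = ⊤) {s : ℕ} [Fact s.Prime] (P : Sylow s G)
    (hP : Nat.card P = s) : ∃ l : ℕ, l.Prime ∧ l ∣ Nat.card G ∧ l < s := by
  have hs : s.Prime := Fact.out
  obtain ⟨M, hM⟩ := exists_pModular hs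
  obtain ⟨X, Y, δ, σ, D⟩ := exists_data hM (prime_ne_two hperf P hP) P hP
  have h2 := two_le_inIdx hperf P hP
  refine ⟨(inIdx P).minFac, Nat.minFac_prime (by omega),
    (Nat.minFac_dvd _).trans ?_, ?_⟩
  · rw [card_eq_mul P]
    exact Dvd.intro _ (by ring : inIdx P * (Nat.card (Subgroup.centralizer ((P : Subgroup G) : Set G)) *
      Nat.card (Sylow s G)) = _)
  · have h3 := Nat.minFac_le (show 0 < inIdx P by omega)
    have h4 := Nat.le_of_dvd (by have := hs.two_le; omega) D.inIdx_dvd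
    omega

theorem divisor_cases {r b d : ℕ} (hr : r.Prime) (hd : d ∣ r * 2 ^ b) (h4 : ¬ 4 ∣ d) :
    d = 1 ∨ d = 2 ∨ d = r ∨ d = 2 * r := by
  obtain ⟨a, c, ha, hc, rfl⟩ := exists_dvd_and_dvd_of_dvd_mul hd
  obtain ⟨i, -, rfl⟩ := (Nat.dvd_prime_pow Nat.prime_two).1 hc
  have hi : i ≤ 1 := by
    by_contra hi
    obtain ⟨k, rfl⟩ : ∃ k, i = k + 2 := ⟨i - 2, by omega⟩
    exact h4 ⟨a * 2 ^ k, by ring⟩
  rcases (Nat.dvd_prime hr).1 ha with rfl | rfl <;> interval_cases i <;> simp [mul_comm]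

theorem degree_dvd_of_not_dvd {d r q b : ℕ} (hq : q.Prime) (hd : d ∣ r * q ^ b) (hqd : ¬ q ∣ d) :
    d ∣ r :=
  (Nat.Coprime.pow_right b ((hq.coprime_iff_not_dvd.2 hqd).symm)).dvd_of_dvd_mul_right hd

/-- The two possible outcomes. -/
def Outcome (G : Type u) [Group G] : Prop :=
  Nonempty (G ≃* Matrix.ProjectiveSpecialLinearGroup (Fin 2) (ZMod 5)) ∨
    Nonempty (G ≃* Matrix.ProjectiveSpecialLinearGroup (Fin 2) (ZMod 7))

theorem case_half [IsSimpleGroup G] (hna : ∃ a b : G, a * b ≠ b * a) {p r q b : ℕ} (hp : p.Prime)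
    (hr : r.Prime) (hq : q.Prime) (hqr : q ≠ r) (hG : Nat.card G = p * r * q ^ b) (hb : 1 ≤ b)
    (hnn : ∀ H : Subgroup G, H.Normal → Nat.card H ≠ p) (hdiv : p ∣ Nat.card G)
    (hsq : ¬ p ^ 2 ∣ Nat.card G) (η : IrrCharacter G)
    (hfaith : ∀ g : G, (η : G → ℂ) g = (η : G → ℂ) 1 → g = 1)
    (hf : charDegree (η : G → ℂ) = r) (hpr : p = 2 * r + 1) : Outcome G := by
  obtain ⟨e⟩ := Cfsg.Agent.S4504.result p hp hdiv hsq hnn η (isCharacter_of_irr η.2) hfaith
    (by rw [hf, hpr])
  haveI : Fact p.Prime := ⟨hp⟩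
  haveI : NeZero p := ⟨hp.ne_zero⟩
  let e0 : G ≃* G ⧸ Subgroup.center G :=
    ((QuotientGroup.quotientMulEquivOfEq (PrimeDegrees.center_bot hna)).trans
      QuotientGroup.quotientBot).symm
  let e' := e0.trans e
  have h5 := SLCard.gcd_mul_card_PSL (F := ZMod p) (n := 2) (by norm_num)
  rw [SLCard.card_SL_two, ZMod.card, ← Nat.card_congr e'.toEquiv, hG] at h5
  have hg : Nat.gcd 2 (p - 1) = 2 := Nat.gcd_eq_left (by rw [hpr]; exact ⟨r, by omega⟩)
  rw [hg, show p ^ 2 - 1 = 2 * r * (p + 1) from by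
    rw [hpr, Nat.sub_eq_iff_eq_add (Nat.one_le_pow _ _ (by omega))]; ring] at h5
  have hqb : q ^ b = p + 1 := by
    apply Nat.eq_of_mul_eq_mul_left (show 0 < 2 * p * r from
      Nat.mul_pos (Nat.mul_pos two_pos hp.pos) hr.pos)
    linarith
  have hq2 : q = 2 := by
    have h2 : 2 ∣ q ^ b := ⟨r + 1, by rw [hqb, hpr]; ring⟩
    exact ((Nat.prime_dvd_prime_iff_eq Nat.prime_two hq).1 (Nat.prime_two.dvd_of_dvd_pow h2)).symm
  subst hq2
  obtain ⟨c, rfl⟩ : ∃ c, b = c + 1 := ⟨b - 1, by omega⟩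
  have hc : 2 ^ c = r + 1 := by
    rw [pow_succ] at hqb
    omega
  have hr3 : r = 3 := by
    rcases three_dvd_two_pow c with ⟨h1, h2⟩ | ⟨h1, h2⟩
    · exact eq_three hr (by omega)
    · have := eq_three hp (by omega)
      have := hr.two_le
      omega
  obtain rfl : p = 7 := by omega
  exact Or.inr ⟨e'⟩

theorem two_pow_adjacent {i r p : ℕ} (hr : r.Prime) (hp : p.Prime) (h1 : r = 2 ^ i + 1)
    (h2 : p = 2 ^ (i + 1) + 1) (hi : 2 ≤ i) : False := by
  have : 4 ≤ 2 ^ i := le_trans (by norm_num) (Nat.pow_le_pow_right two_pos hi)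
  have h3 : 2 ^ (i + 1) = 2 * 2 ^ i := pow_succ' 2 i
  rcases three_dvd_two_pow i with ⟨h4, h5⟩ | ⟨h4, h5⟩
  · have := eq_three hp (by omega); omega
  · have := eq_three hr (by omega); omega

theorem main [IsSimpleGroup G] (hnc : ¬ IsCyclic G) {p r q b : ℕ} (hp : p.Prime) (hr : r.Prime)
    (hq : q.Prime) (hpq : p ≠ q) (hqr : q ≠ r) (hrp : r < p)
    (hG : Nat.card G = p * r * q ^ b) : Outcome G := by
  classical
  have hna : ∃ a b : G, a * b ≠ b * a := by
    by_contra h
    push Not at h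
    exact hnc (by
      letI : CommGroup G := { (inferInstance : Group G) with mul_comm := h }
      infer_instance)
  have hperf : commutator G = ⊤ :=
    (Subgroup.Normal.eq_bot_or_eq_top (inferInstance : (commutator G).Normal)).resolve_left fun h => by
      obtain ⟨a, b, hab⟩ := hna
      exact hab (commutatorElement_eq_one_iff_mul_comm.1 (by
        rw [← Subgroup.mem_bot, ← h]
        exact Subgroup.commutator_mem_commutator (Subgroup.mem_top a) (Subgroup.mem_top b)))
  haveI : Fact p.Prime := ⟨hp⟩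
  haveI : Fact r.Prime := ⟨hr⟩
  have hpm : ¬ p ∣ r * q ^ b := fun h => by
    rcases hp.dvd_mul.1 h with h | h
    · exact hrp.ne' ((Nat.prime_dvd_prime_iff_eq hp hr).1 h)
    · exact hpq ((Nat.prime_dvd_prime_iff_eq hp hq).1 (hp.dvd_of_dvd_pow h))
  have hrm : ¬ r ∣ p * q ^ b := fun h => by
    rcases hr.dvd_mul.1 h with h | h
    · exact hrp.ne ((Nat.prime_dvd_prime_iff_eq hr hp).1 h)
    · exact hqr.symm ((Nat.prime_dvd_prime_iff_eq hr hq).1 (hr.dvd_of_dvd_pow h))
  -- the prime `q` is the smallest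
  obtain ⟨hqlt, hb⟩ : q < r ∧ 1 ≤ b := by
    let R : Sylow r G := Classical.arbitrary _
    obtain ⟨l, hl, hldvd, hlr⟩ := exists_smaller_prime hperf R
      (card_sylow_prime (m := p * q ^ b) (by rw [hG]; ring) hrm R)
    rw [hG, mul_assoc] at hldvd
    rcases hl.dvd_mul.1 hldvd with h | h
    · have := (Nat.prime_dvd_prime_iff_eq hl hp).1 h; omega
    rcases hl.dvd_mul.1 h with h | h
    · have := (Nat.prime_dvd_prime_iff_eq hl hr).1 h; omega
    have hb : 1 ≤ b := Nat.one_le_iff_ne_zero.2 fun h0 => by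
      rw [h0, pow_zero, Nat.dvd_one] at h; exact hl.ne_one h
    have := (Nat.prime_dvd_prime_iff_eq hl hq).1 (hl.dvd_of_dvd_pow h)
    exact ⟨by omega, hb⟩
  have hq2' := hq.two_le
  have hr_odd : r % 2 = 1 := (hr.eq_two_or_odd).resolve_left (by omega)
  have hp_odd : p % 2 = 1 := (hp.eq_two_or_odd).resolve_left (by omega)
  let P : Sylow p G := Classical.arbitrary _
  have hP : Nat.card P = p := card_sylow_prime (m := r * q ^ b) (by rw [hG]; ring) hpm P
  obtain ⟨M, hM⟩ := exists_pModular hp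
  obtain ⟨X, Y, δ, σ, D⟩ := exists_data hM (by omega) P hP
  have he2 := two_le_inIdx hperf P hP
  have hed := D.inIdx_dvd
  have hep : inIdx P < p := by
    have := Nat.le_of_dvd (by omega) hed
    omega
  -- degrees divide the prime to `p` part of the order
  have hdvd : ∀ d : ℕ, d ∣ inIdx P * Nat.card (Sylow p G) → d ∣ r * q ^ b := by
    intro d hd
    obtain ⟨c, hc⟩ : p ∣ Nat.card (Subgroup.centralizer ((P : Subgroup G) : Set G)) := by
      have h := Subgroup.card_dvd_of_le (DefectOne.setup_sylow P hP).le_cent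
      rwa [show Nat.card (P : Subgroup G) = p from hP] at h
    have h1 := card_eq_mul P
    rw [hG, hc, mul_assoc p r, mul_assoc (p * c), mul_assoc p c] at h1
    rw [Nat.eq_of_mul_eq_mul_left hp.pos h1]
    exact hd.mul_left c
  obtain ⟨η, hη⟩ : Y.Nonempty := by
    rw [← Finset.card_pos]
    rcases Nat.eq_zero_or_pos Y.card with h | h
    · have := D.cardY; rw [h, zero_mul] at this; omega
    · exact h
  have hrel := D.degree_relation hp hη
  have hnn : ∀ H : Subgroup G, H.Normal → Nat.card H ≠ p := by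
    intro H hH hc
    rcases hH.eq_bot_or_eq_top with h | h
    · rw [h, Subgroup.card_bot] at hc; omega
    · rw [h, Subgroup.card_top] at hc; exact hnc (isCyclic_of_prime_card hc)
  have hdiv : p ∣ Nat.card G := ⟨r * q ^ b, by rw [hG]; ring⟩
  have hsq : ¬ p ^ 2 ∣ Nat.card G := fun h => hpm (by
    rw [hG, sq, mul_assoc p r] at h
    exact Nat.dvd_of_mul_dvd_mul_left hp.pos h)
  have hpos : ∀ χ : IrrCharacter G, 1 ≤ charDegree (χ : G → ℂ) := fun χ =>
    Nat.one_le_iff_ne_zero.2 fun h => irr_one_ne_zero χ (by rw [← irr_charDegree_cast, h, Nat.cast_zero])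
  have hgt : ∀ χ : IrrCharacter G, χ ≠ oneIrr G → charDegree (χ : G → ℂ) ≠ 1 := fun χ hχ h =>
    hχ (eq_one_of_degree_one hperf h)
  -- a nontrivial character of degree prime to `q`
  have hex : ∃ χ : IrrCharacter G, (χ ∈ X ∨ χ = η) ∧ χ ≠ oneIrr G ∧ ¬ q ∣ charDegree (χ : G → ℂ) := by
    by_contra hno
    push Not at hno
    have hq1 : ¬ (q : ℤ) ∣ 1 := fun h => by
      have := Int.le_of_dvd one_pos h
      omega
    rcases D.one_mem hM with h1 | h1
    · have hne : η ≠ oneIrr G := fun e => Finset.disjoint_left.1 D.disj h1 (e ▸ hη)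
      rw [← Finset.add_sum_erase _ _ h1, charDegree_oneIrr] at hrel
      have hs : (q : ℤ) ∣ ∑ χ ∈ X.erase (oneIrr G), δ χ * (charDegree (χ : G → ℂ) : ℤ) :=
        Finset.dvd_sum fun χ hχ => Dvd.dvd.mul_left (Int.natCast_dvd_natCast.2
          (hno χ (Or.inl (Finset.mem_of_mem_erase hχ)) (Finset.ne_of_mem_erase hχ))) _
      have hη' : (q : ℤ) ∣ σ * (charDegree (η : G → ℂ) : ℤ) :=
        Dvd.dvd.mul_left (Int.natCast_dvd_natCast.2 (hno η (Or.inr rfl) hne)) _
      push_cast at hrel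
      have hd : (q : ℤ) ∣ δ (oneIrr G) := by
        have := (hs.add hη').neg_right
        rwa [show -(∑ χ ∈ X.erase (oneIrr G), δ χ * (charDegree (χ : G → ℂ) : ℤ) +
          σ * (charDegree (η : G → ℂ) : ℤ)) = δ (oneIrr G) by linarith] at this
      rcases D.hδ _ h1 with h | h <;> rw [h] at hd
      · exact hq1 hd
      · exact hq1 (dvd_neg.1 hd)
    · have hηdeg : charDegree (η : G → ℂ) = 1 := by
        have h2 := D.agree η hη _ h1 1 (by rw [orderOf_one]; exact hp.not_dvd_one)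
        rw [← irr_charDegree_cast, ← irr_charDegree_cast, charDegree_oneIrr, Nat.cast_inj] at h2
        exact h2
      have hs : (q : ℤ) ∣ ∑ χ ∈ X, δ χ * (charDegree (χ : G → ℂ) : ℤ) :=
        Finset.dvd_sum fun χ hχ => Dvd.dvd.mul_left (Int.natCast_dvd_natCast.2
          (hno χ (Or.inl hχ) fun e => Finset.disjoint_left.1 D.disj hχ (e ▸ h1))) _
      rw [hηdeg] at hrel
      push_cast at hrel
      rw [show ∑ χ ∈ X, δ χ * (charDegree (χ : G → ℂ) : ℤ) = -σ by linarith] at hs
      rcases D.hσ with h | h <;> rw [h] at hs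
      · exact hq1 (dvd_neg.1 hs)
      · exact hq1 (by simpa using hs)
  obtain ⟨χ₀, hχ₀, hχ₀1, hχ₀q⟩ := hex
  have hd₀ : charDegree (χ₀ : G → ℂ) = r := by
    have h1 : charDegree (χ₀ : G → ℂ) ∣ r * q ^ b := hdvd _ (by
      rcases hχ₀ with h | h
      · exact D.dvdX _ h
      · exact h ▸ D.dvdY η hη)
    exact ((Nat.dvd_prime hr).1 (degree_dvd_of_not_dvd hq h1 hχ₀q)).resolve_left (hgt _ hχ₀1)
  have hp2r : p ≤ 2 * r + 1 := hd₀ ▸ Cfsg.Agent.S4503.result p hp hdiv hsq hnn _
    (isCharacter_of_irr χ₀.2) (irr_faithful χ₀ hχ₀1)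
  -- a degree `≡ ±1` modulo `p` is not `r`
  have hXne : ∀ χ ∈ X, charDegree (χ : G → ℂ) ≠ r := by
    intro χ hχ h
    have hm := D.degX χ hχ
    rw [h, Int.modEq_iff_dvd] at hm
    have : δ χ - (r : ℤ) = 0 ∨ (p : ℤ) ≤ |δ χ - (r : ℤ)| := by
      rcases eq_or_ne (δ χ - (r : ℤ)) 0 with h0 | h0
      · exact Or.inl h0
      · exact Or.inr (Int.le_of_dvd (abs_pos.2 h0) ((dvd_abs _ _).2 hm))
    rcases D.hδ χ hχ with hδ | hδ <;> rw [hδ] at this <;> rcases this with h0 | h0
    · omega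
    · rw [abs_of_nonpos (by omega)] at h0; omega
    · omega
    · rw [abs_of_nonpos (by omega)] at h0; omega
  have hχ₀η : χ₀ = η := hχ₀.resolve_left fun h => hXne _ h hd₀
  subst hχ₀η
  have h1X : oneIrr G ∈ X := (D.one_mem hM).resolve_right fun h1 => by
    have h2 := D.agree _ hη _ h1 1 (by rw [orderOf_one]; exact hp.not_dvd_one)
    rw [← irr_charDegree_cast, ← irr_charDegree_cast, charDegree_oneIrr, Nat.cast_inj, hd₀] at h2
    exact hr.ne_one h2
  have hδ1 : δ (oneIrr G) = 1 := by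
    obtain ⟨x₀, hx₀, hx₀1⟩ := exists_mem_ne P hP
    have h := D.valX _ h1X x₀ hx₀ hx₀1
    have h' : ((δ (oneIrr G) : ℤ) : ℂ) = ((1 : ℤ) : ℂ) := by rw [← h, Int.cast_one]; rfl
    exact_mod_cast h'
  have hdY : ∀ θ ∈ Y, charDegree (θ : G → ℂ) = r := fun θ hθ => by
    have h2 := D.agree θ hθ _ hη 1 (by rw [orderOf_one]; exact hp.not_dvd_one)
    rw [← irr_charDegree_cast, ← irr_charDegree_cast, Nat.cast_inj, hd₀] at h2
    exact h2
  have hmod := D.degY _ hη
  rw [hd₀, Int.modEq_iff_dvd] at hmod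
  rcases D.hσ with rfl | rfl
  · -- `r + inIdx P = p`
    have hre : r + inIdx P = p := by
      obtain ⟨k, hk⟩ := hmod
      have h1 : (p : ℤ) * k < 0 := by omega
      have h2 : (p : ℤ) * k > p * (-2) := by omega
      have hp0 : (0 : ℤ) ≤ p := Nat.cast_nonneg p
      have hk0 : k < 0 := by
        by_contra h0
        have := mul_nonneg hp0 (not_lt.1 h0)
        omega
      have hk2 : -2 < k := lt_of_mul_lt_mul_left h2 hp0
      obtain rfl : k = -1 := by omega
      omega
    have heG : inIdx P ∣ r * q ^ b := hdvd _ (dvd_mul_right _ _)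
    have her : Nat.Coprime (inIdx P) r := (hr.coprime_iff_not_dvd.2 fun h => hrp.ne
      ((Nat.prime_dvd_prime_iff_eq hr hp).1 (hre ▸ dvd_add dvd_rfl h))).symm
    obtain ⟨i, -, hi⟩ := (Nat.dvd_prime_pow hq).1 (her.dvd_of_dvd_mul_left heG)
    have hq2 : q = 2 := by
      refine hq.eq_two_or_odd.resolve_right fun hodd => ?_
      have : Odd (inIdx P) := hi ▸ (Nat.odd_iff.2 hodd).pow
      have := Nat.odd_iff.1 this
      omega
    subst hq2
    obtain ⟨T, hT⟩ := hed
    rw [← Finset.add_sum_erase _ _ h1X, hδ1, charDegree_oneIrr, hd₀] at hrel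
    push_cast at hrel
    rcases (by
      rcases i with _ | _ | i
      · simp at hi; omega
      · left; simpa using hi
      · right; exact ⟨i, hi⟩ : inIdx P = 2 ∨ ∃ j, inIdx P = 2 ^ (j + 2)) with he | ⟨j, he⟩
    · -- inertial index two
      obtain ⟨χ, hX⟩ := Finset.card_eq_one.1 (show (X.erase (oneIrr G)).card = 1 by
        rw [Finset.card_erase_of_mem h1X, D.cardX, he])
      have hχX : χ ∈ X := Finset.mem_of_mem_erase (a := oneIrr G) (hX ▸ Finset.mem_singleton_self χ)
      rw [hX, Finset.sum_singleton] at hrel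
      have hdpos := hpos χ
      have hδχ : δ χ = -1 := (D.hδ χ hχX).resolve_left fun h => by rw [h] at hrel; omega
      rw [hδχ] at hrel
      have hdp : charDegree (χ : G → ℂ) = p - 1 := by omega
      have hd2 : charDegree (χ : G → ℂ) ∣ 2 ^ b := by
        refine Nat.Coprime.dvd_of_dvd_mul_left ?_ (hdvd _ (D.dvdX χ hχX))
        refine (hr.coprime_iff_not_dvd.2 fun h => hr.ne_one (Nat.dvd_one.1 ?_)).symm
        have h2 := Nat.dvd_sub h (dvd_refl r)
        rwa [show charDegree (χ : G → ℂ) - r = 1 by omega] at h2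
      obtain ⟨c, -, hc⟩ := (Nat.dvd_prime_pow Nat.prime_two).1 hd2
      obtain ⟨rfl, rfl⟩ : p = 5 ∧ r = 3 := by
        rcases three_dvd_two_pow c with ⟨h1, -⟩ | ⟨h1, -⟩
        · have := eq_three hr (by omega); omega
        · have := eq_three hp (by omega); omega
      exact Or.inl (five hM hperf P hP hG D h1X hδ1 he hX hδχ (by omega) hdY)
    · -- inertial index divisible by four
      exfalso
      have h4 : ¬ (4 : ℤ) ∣ (r : ℤ) + 1 := by
        obtain ⟨k, hk⟩ : 4 ∣ inIdx P := ⟨2 ^ j, by rw [he]; ring⟩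
        have hk' : p - 1 = 4 * (k * T) := by rw [hT, hk, mul_assoc]
        omega
      obtain ⟨χ, hχ, hχ4⟩ : ∃ χ ∈ X.erase (oneIrr G), ¬ 4 ∣ charDegree (χ : G → ℂ) := by
        by_contra hno
        push Not at hno
        have hs : (4 : ℤ) ∣ ∑ χ ∈ X.erase (oneIrr G), δ χ * (charDegree (χ : G → ℂ) : ℤ) :=
          Finset.dvd_sum fun χ hχ => Dvd.dvd.mul_left (Int.natCast_dvd_natCast.2 (hno χ hχ)) _
        exact h4 (by omega)
      have hχX := Finset.mem_of_mem_erase hχ
      have hm := D.degX χ hχX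
      rw [Int.modEq_iff_dvd] at hm
      rcases divisor_cases hr (hdvd _ (D.dvdX χ hχX)) hχ4 with h | h | h | h
      · exact hgt χ (Finset.ne_of_mem_erase hχ) h
      · rw [h] at hm
        rcases D.hδ χ hχX with hδ | hδ <;> rw [hδ] at hm
        · have := Int.le_of_dvd one_pos (dvd_neg.1 (by simpa using hm))
          omega
        · have := Int.le_of_dvd three_pos (dvd_neg.1 (by simpa using hm))
          omega
      · exact hXne χ hχX h
      · rw [h] at hm
        obtain ⟨k, hk⟩ := hm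
        push_cast at hk
        have hp0 : (0 : ℤ) ≤ p := Nat.cast_nonneg p
        have h1 : (p : ℤ) * (-2) < p * k := by rcases D.hδ χ hχX with hδ | hδ <;> omega
        have h2 : (p : ℤ) * k < 0 := by rcases D.hδ χ hχX with hδ | hδ <;> omega
        have hk0 : k < 0 := by
          by_contra h0
          have := mul_nonneg hp0 (not_lt.1 h0)
          omega
        have hk2 : -2 < k := lt_of_mul_lt_mul_left h1 hp0
        obtain rfl : k = -1 := by omega
        rcases D.hδ χ hχX with hδ | hδ <;> rw [hδ] at hk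
        · -- `2 r = p + 1`
          refine two_pow_adjacent (i := j + 2) hr hp (by omega) ?_ (by omega)
          rw [pow_succ]; omega
        · -- `2 r = p - 1`
          have hd : inIdx P ∣ 2 * r := by
            rw [show 2 * r = p - 1 by omega, hT]; exact dvd_mul_right _ _
          have h3 : inIdx P ∣ 2 := her.dvd_of_dvd_mul_right hd
          have h4 := Nat.le_of_dvd two_pos h3
          omega
  · -- `r = inIdx P`
    have hre : inIdx P = r := by
      obtain ⟨k, hk⟩ := hmod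
      rcases eq_or_ne k 0 with rfl | hk0
      · omega
      · have h : (p : ℤ) ≤ |(p : ℤ) * k| := by
          rw [abs_mul, Nat.abs_cast]
          exact le_mul_of_one_le_right (Nat.cast_nonneg p) (Int.one_le_abs hk0)
        rw [← hk] at h
        rcases le_abs.1 h with h | h <;> omega
    obtain ⟨T, hT⟩ := hed
    rw [hre] at hT
    have hT2 : T < 3 := Nat.lt_of_mul_lt_mul_left (a := r) (by omega)
    have : p = 2 * r + 1 := by interval_cases T <;> omega
    exact case_half hna hp hr hq hqr hG hb hnn hdiv hsq _ (irr_faithful _ hχ₀1) hd₀ this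

end CfsgLib.PRQPow
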