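import Cfsg.Agent.Lib.SmallSylow.Apply
import Cfsg.Agent.Lib.SmallSylow.PredTwo.Bounds
import Cfsg.Agent.Lib.ThreeCC.Wreath.PairCount
import Cfsg.Agent.Lib.PrimeDegrees.Solvable

/-!
Simple groups of order `5 * 3 * 2 ^ b` with inertial index two at the prime five and principal
block degrees `1, 4, 3, 3`.
-/

set_option autoImplicit false

namespace CfsgLib.PRQPow

open Cfsg CfsgLib.Blocks CfsgLib.CharTheory CfsgLib.SmallSylow
open scoped ComplexConjugate

universe u

variable {G : Type u} [Group G] [Fintype G] [IsSimpleGroup G]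

theorem irr_faithful (χ : IrrCharacter G) (hne : χ ≠ oneIrr G) (g : G)
    (hg : (χ : G → ℂ) g = (χ : G → ℂ) 1) : g = 1 :=
  PrimeDegrees.faithful χ (fun h => hne (Subtype.ext h)) g hg

theorem small_pow {t : ℤ} {X b : ℕ} (hlo : -3 ≤ t) (hhi : t ≤ 3) (hne : t ≠ 3)
    (h : 4 * (X : ℤ) * 2 ^ b = 5 * (t - 3) ^ 2) : b ≤ 2 := by
  by_contra hb
  obtain ⟨c, rfl⟩ : ∃ c, b = c + 3 := ⟨b - 3, by omega⟩
  have h' : 32 * ((X : ℤ) * 2 ^ c) = 5 * (t - 3) ^ 2 := by rw [← h]; ring
  interval_cases t <;> omega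

theorem five {b : ℕ} [Fact (Nat.Prime 5)] {M : Ideal AlgInt} (hM : IsPModular 5 M)
    (hperf : commutator G = ⊤) (P : Sylow 5 G) (hP : Nat.card P = 5)
    (hG : Nat.card G = 5 * 3 * 2 ^ b) {X Y : Finset (IrrCharacter G)} {δ : IrrCharacter G → ℤ}
    (D : Data P M X Y δ 1) (h1X : oneIrr G ∈ X) (hδ1 : δ (oneIrr G) = 1) (hq : inIdx P = 2)
    {χ : IrrCharacter G} (hX : X.erase (oneIrr G) = {χ}) (hδχ : δ χ = -1)
    (hdχ : charDegree (χ : G → ℂ) = 4) (hdY : ∀ η ∈ Y, charDegree (η : G → ℂ) = 3) :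
    Nonempty (G ≃* Matrix.ProjectiveSpecialLinearGroup (Fin 2) (ZMod 5)) := by
  classical
  have hp : Nat.Prime 5 := Fact.out
  have hYc : Y.card = 2 := by
    have := D.cardY
    rw [hq] at this
    omega
  obtain ⟨η, hη⟩ : Y.Nonempty := Finset.card_pos.1 (by omega)
  have hη1 : η ≠ oneIrr G := fun e => Finset.disjoint_left.1 D.disj h1X (e ▸ hη)
  -- the Sylow subgroup is self-centralizing
  have hC : Subgroup.centralizer ((P : Subgroup G) : Set G) = (P : Subgroup G) := by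
    have hpg := Cfsg.Agent.S4729.result 5 M hM hperf P η ((D.union η).2 (Or.inr hη))
      (irr_faithful η hη1) (by rw [hdY η hη]; norm_num)
    exact P.is_maximal' hpg (DefectOne.setup_sylow P hP).le_cent
  have hcard := card_eq_mul P
  rw [hC, hq, show Nat.card (P : Subgroup G) = 5 from hP, hG] at hcard
  -- a central involution of a Sylow 2-subgroup
  have hb1 : 1 ≤ b := by
    by_contra hb
    rw [show b = 0 by omega] at hcard
    omega
  haveI : Fact (Nat.Prime 2) := ⟨Nat.prime_two⟩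
  let S : Sylow 2 G := Classical.arbitrary _
  have hS : Nat.card (S : Subgroup G) = 2 ^ b := by
    show Nat.card S = 2 ^ b
    rw [Sylow.card_eq_multiplicity]
    congr 1
    rw [hG, Nat.factorization_mul (by norm_num) (by positivity), Nat.prime_two.factorization_pow,
      Finsupp.add_apply, Finsupp.single_eq_same]
    norm_num [Nat.factorization_eq_zero_iff]
  haveI : Nontrivial (S : Subgroup G) := Finite.one_lt_card_iff_nontrivial.1 (by
    rw [hS]; exact Nat.one_lt_pow (by omega) one_lt_two)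
  haveI : Nontrivial (Subgroup.center (S : Subgroup G)) := S.isPGroup'.center_nontrivial
  have h2c : 2 ∣ Nat.card (Subgroup.center (S : Subgroup G)) := by
    obtain ⟨k, hk⟩ := IsPGroup.iff_card.1 (S.isPGroup'.to_subgroup (Subgroup.center (S : Subgroup G)))
    have : 1 < Nat.card (Subgroup.center (S : Subgroup G)) := Finite.one_lt_card
    rw [hk] at this ⊢
    exact dvd_pow_self 2 (by rintro rfl; simp at this)
  obtain ⟨⟨⟨w, hwS⟩, hwc⟩, hwo⟩ := exists_prime_orderOf_dvd_card' 2 h2c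
  rw [← Subgroup.orderOf_coe, ← Subgroup.orderOf_coe] at hwo
  change orderOf w = 2 at hwo
  have hw1 : w ≠ 1 := fun h => by rw [h, orderOf_one] at hwo; norm_num at hwo
  have hSle : (S : Subgroup G) ≤ Subgroup.centralizer ({w} : Set G) := fun s hs => by
    rw [Subgroup.mem_centralizer_singleton_iff]
    exact congrArg Subtype.val (Subgroup.mem_center_iff.1 hwc ⟨s, hs⟩)
  have hwreg : ¬ 5 ∣ orderOf w := by rw [hwo]; norm_num
  -- the values at the involution
  obtain ⟨t, ht⟩ := PredTwo.involution_value (isCharacter_of_irr η.2) hwo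
  have hne3 : t ≠ 3 := fun h => hw1 (irr_faithful η hη1 w (by
    rw [ht, h, ← irr_charDegree_cast, hdY η hη]; norm_num))
  have hbd : |(t : ℝ)| ≤ 3 := by
    have h := norm_char_le (isCharacter_of_irr η.2) w
    rw [ht, ← irr_charDegree_cast, hdY η hη, Complex.norm_intCast, Complex.norm_natCast] at h
    exact_mod_cast h
  have hlo : -3 ≤ t := by
    have := (abs_le.1 hbd).1
    exact_mod_cast this
  have hhi : t ≤ 3 := by
    have := (abs_le.1 hbd).2
    exact_mod_cast this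
  have hXeq : X = insert (oneIrr G) {χ} := by rw [← hX, Finset.insert_erase h1X]
  have hχX : χ ∈ X := by rw [hXeq]; simp
  have hχ1 : oneIrr G ≠ χ := fun e => by rw [← e, hδ1] at hδχ; norm_num at hδχ
  have hχw : (χ : G → ℂ) w = 1 + t := by
    have h := D.relation η hη w hwreg
    rw [hXeq, Finset.sum_insert (by simpa using hχ1), Finset.sum_singleton, hδ1, hδχ, ht] at h
    have h1 : (oneIrr G : G → ℂ) w = 1 := rfl
    rw [h1] at h
    push_cast at h
    linear_combination -h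
  -- counting products of conjugates of the involution
  obtain ⟨y, hy, hy1⟩ := exists_mem_ne P hP
  set A : Finset G := Finset.univ.filter fun x => IsConj w x with hA
  have hAc : ∀ x ∈ A, ∀ h : G, h * x * h⁻¹ ∈ A := fun x hx h => by
    rw [hA, Finset.mem_filter] at hx ⊢
    exact ⟨Finset.mem_univ _, hx.2.trans (isConj_iff.2 ⟨h, rfl⟩)⟩
  have hAs : ∀ ψ : IrrCharacter G, ∑ x ∈ A, (ψ : G → ℂ) x = (A.card : ℂ) * (ψ : G → ℂ) w := by
    intro ψ
    rw [Finset.sum_congr rfl fun x hx => show (ψ : G → ℂ) x = (ψ : G → ℂ) w from ?_, Finset.sum_const,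
      nsmul_eq_mul]
    obtain ⟨c, hc⟩ := isConj_iff.1 (Finset.mem_filter.1 hx).2
    rw [← hc]
    exact isClassFunction_irr ψ.2 w c
  have key := ThreeCC.Wreath.card_pairs_two A A hAc hAc y
  set a := (A.filter fun x => x⁻¹ * y ∈ A).card
  have hsum : ∑ ψ : IrrCharacter G, (∑ x ∈ A, (ψ : G → ℂ) x) * (∑ x ∈ A, (ψ : G → ℂ) x) *
      conj ((ψ : G → ℂ) y) / (ψ : G → ℂ) 1 = (A.card : ℂ) ^ 2 * (((t : ℂ) - 3) ^ 2 / 12) := by
    rw [← Finset.sum_subset (Finset.subset_univ (X ∪ Y)) fun ψ _ hψ => by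
      have hout := (outside hM P hP hC (χ := ψ) (fun hin => hψ (Finset.mem_union.2 ((D.union ψ).1 hin)))).1
        y hy hy1
      rw [hout, map_zero, mul_zero, zero_div]]
    rw [Finset.sum_union D.disj, hXeq, Finset.sum_insert (by simpa using hχ1), Finset.sum_singleton,
      Finset.sum_congr rfl fun (θ : IrrCharacter G) (hθ : θ ∈ Y) => show (∑ x ∈ A, (θ : G → ℂ) x) * (∑ x ∈ A, (θ : G → ℂ) x) *
          conj ((θ : G → ℂ) y) / (θ : G → ℂ) 1 =
        (A.card : ℂ) ^ 2 * (t : ℂ) ^ 2 / 3 * conj ((θ : G → ℂ) y) by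
        rw [hAs, D.agree θ hθ η hη w hwreg, ht, ← irr_charDegree_cast θ, hdY θ hθ]
        push_cast
        ring,
      ← Finset.mul_sum, ← map_sum, D.sumY y hy hy1, hAs, hAs, D.valX χ hχX y hy hy1, hδχ, hχw,
      show (oneIrr G : G → ℂ) w = 1 from rfl, show (oneIrr G : G → ℂ) y = 1 from rfl,
      show (oneIrr G : G → ℂ) 1 = 1 from rfl, ← irr_charDegree_cast χ, hdχ]
    simp only [Int.cast_one, Int.cast_neg, map_one, map_neg, Nat.cast_ofNat]
    ring
  rw [hsum] at key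
  have hk := card_isConj_mul_card_centralizer w
  rw [show Nat.card {x : G // IsConj w x} = A.card from by
    rw [Nat.card_eq_fintype_card, hA, Fintype.card_subtype]] at hk
  obtain ⟨d, hd⟩ := hS ▸ Subgroup.card_dvd_of_le hSle
  rw [hd] at hk
  have hGpos : (Nat.card G : ℂ) ≠ 0 := Nat.cast_ne_zero.2 Nat.card_pos.ne'
  have hkC : (A.card : ℂ) * (2 ^ b * (d : ℂ)) = (Nat.card G : ℂ) := by exact_mod_cast hk
  have e1 : 12 * (a : ℂ) * (2 ^ b * (d : ℂ)) ^ 2 = (Nat.card G : ℂ) * ((t : ℂ) - 3) ^ 2 := by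
    apply mul_left_cancel₀ hGpos
    have key' : 12 * ((Nat.card G : ℂ) * (a : ℂ)) = (A.card : ℂ) ^ 2 * ((t : ℂ) - 3) ^ 2 := by
      rw [key]; ring
    linear_combination (2 ^ b * (d : ℂ)) ^ 2 * key' +
      ((t : ℂ) - 3) ^ 2 * ((A.card : ℂ) * (2 ^ b * d) + (Nat.card G : ℂ)) * hkC
  rw [hG] at e1
  have e2 : ((4 * ((a * d ^ 2 : ℕ) : ℤ) * 2 ^ b : ℤ) : ℂ) = ((5 * (t - 3) ^ 2 : ℤ) : ℂ) := by
    have h2 : ((2 : ℂ) ^ b * 3) ≠ 0 := mul_ne_zero (pow_ne_zero _ two_ne_zero) (by norm_num)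
    apply mul_left_cancel₀ h2
    push_cast at e1 ⊢
    linear_combination e1
  have hb2 : b ≤ 2 := small_pow hlo hhi hne3 (by exact_mod_cast e2)
  -- conclusion
  have hmod := card_sylow_modEq_one 5 G
  have hn : Nat.card (Sylow 5 G) = 6 := by
    unfold Nat.ModEq at hmod
    interval_cases b <;> omega
  have hcore : ∀ K : Subgroup G, K.Normal → ¬ 5 ∣ Nat.card K → K = ⊥ := by
    intro K hK h5
    refine hK.eq_bot_or_eq_top.resolve_right fun h => h5 ?_
    rw [h, Subgroup.card_top, hG]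
    exact ⟨3 * 2 ^ b, by ring⟩
  exact psl_of_one hP (by rw [hn]) hC hcore (by rw [hq]) (by rw [hq]; exact even_two)

end CfsgLib.PRQPow
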